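import Mathlib

/-!
A flat separated surjective birational morphism of integral schemes is an isomorphism, as soon as it
is affine or locally of finite presentation.
-/

universe u

open CategoryTheory AlgebraicGeometry

namespace Groth.Agent.BirFlat

variable {X' X : Scheme.{u}} [IsIntegral X'] [IsIntegral X] (f : X' ⟶ X)

lemma map_genericPoint [Surjective f] : f (genericPoint X') = genericPoint X := by
  refine ((genericPoint_spec X).eq ?_).symm
  have h := (genericPoint_spec X').image f.continuous
  rwa [Set.image_univ, f.surjective.range_eq, closure_univ] at h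

lemma exists_fraction {y η : X} (hη : η = genericPoint X) (h : η ⤳ y) (t : X.presheaf.stalk η) :
    ∃ a s : X.presheaf.stalk y, s ≠ 0 ∧
      t * X.presheaf.stalkSpecializes h s = X.presheaf.stalkSpecializes h a := by
  subst hη
  obtain ⟨⟨a, s⟩, e⟩ := IsLocalization.surj (nonZeroDivisors (X.presheaf.stalk y))
    (t : X.functionField)
  exact ⟨a, s.1, nonZeroDivisors.ne_zero s.2, e⟩

lemma spec_injective {y η : X} (hη : η = genericPoint X) (h : η ⤳ y) :
    Function.Injective (X.presheaf.stalkSpecializes h) := by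
  subst hη
  exact IsFractionRing.injective (X.presheaf.stalk y) X.functionField

variable [Flat f] [Surjective f] (hK : IsIso (f.stalkMap (genericPoint X')))

include hK in
lemma isIso_stalkMap (x : X') : IsIso (f.stalkMap x) := by
  have hs : genericPoint X' ⤳ x := (genericPoint_spec X').specializes trivial
  have hη := map_genericPoint f
  algebraize [(f.stalkMap x).hom]
  have : Module.FaithfullyFlat (X.presheaf.stalk (f x)) (X'.presheaf.stalk x) :=
    @Module.FaithfullyFlat.of_flat_of_isLocalHom _ _ _ _ _ _ _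
      (Flat.stalkMap f x) (f.toLRSHom.prop x)
  rw [ConcreteCategory.isIso_iff_bijective]
  refine ⟨FaithfulSMul.algebraMap_injective (X.presheaf.stalk (f x)) (X'.presheaf.stalk x),
    fun b => ?_⟩
  obtain ⟨t, ht⟩ := (ConcreteCategory.bijective_of_isIso (f.stalkMap (genericPoint X'))).2
    (X'.presheaf.stalkSpecializes hs b)
  obtain ⟨a, s, hs0, e⟩ := exists_fraction hη (f.base.hom.map_specializes hs) t
  have key : b * f.stalkMap x s = f.stalkMap x a := by
    apply spec_injective (rfl : genericPoint X' = _) hs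
    rw [map_mul, ← Scheme.Hom.stalkSpecializes_stalkMap_apply f _ _ hs s,
      ← Scheme.Hom.stalkSpecializes_stalkMap_apply f _ _ hs a, ← ht, ← map_mul, e]
  have hmem : a ∈ ((Ideal.span {s}).map (algebraMap (X.presheaf.stalk (f x)) (X'.presheaf.stalk x))).comap
      (algebraMap (X.presheaf.stalk (f x)) (X'.presheaf.stalk x)) := by
    rw [Ideal.mem_comap]
    exact key ▸ Ideal.mul_mem_left _ b (Ideal.mem_map_of_mem _ (Ideal.mem_span_singleton_self s))
  rw [Ideal.comap_map_eq_self_of_faithfullyFlat, Ideal.mem_span_singleton'] at hmem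
  obtain ⟨c, hc⟩ := hmem
  refine ⟨c, mul_right_cancel₀ (b := f.stalkMap x s) ?_ ?_⟩
  · intro h0
    exact hs0 (FaithfulSMul.algebraMap_injective (X.presheaf.stalk (f x)) (X'.presheaf.stalk x)
      (by rw [map_zero]; exact h0))
  · rw [← map_mul, hc, key]

include hK in
lemma injective [IsSeparated f] : Function.Injective f := by
  have hiso := isIso_stalkMap f hK
  have hs : ∀ x, genericPoint X' ⤳ x := fun x => (genericPoint_spec X').specializes trivial
  let a : ∀ x, Spec (X.presheaf.stalk (f x)) ⟶ X' := fun x =>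
    Spec.map (inv (f.stalkMap x)) ≫ X'.fromSpecStalk x
  have ha : ∀ x, a x ≫ f = X.fromSpecStalk (f x) := fun x => by
    simp only [a, Category.assoc]
    rw [← Scheme.SpecMap_stalkMap_fromSpecStalk, ← Spec.map_comp_assoc, IsIso.hom_inv_id,
      Spec.map_id, Category.id_comp]
  have hgen : ∀ x, Spec.map (X.presheaf.stalkSpecializes (f.base.hom.map_specializes (hs x))) ≫ a x =
      Spec.map (inv (f.stalkMap (genericPoint X'))) ≫ X'.fromSpecStalk _ := by
    intro x
    simp only [a]
    rw [← X'.SpecMap_stalkSpecializes_fromSpecStalk (hs x), ← Spec.map_comp_assoc,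
      ← Spec.map_comp_assoc]
    congr 2
    rw [IsIso.inv_comp_eq, ← Category.assoc, IsIso.eq_comp_inv]
    exact (Scheme.Hom.stalkSpecializes_stalkMap f _ _ (hs x)).symm ▸ rfl
  have hclosed : ∀ x, a x (IsLocalRing.closedPoint _) = x := fun x => by
    simp only [a, Scheme.Hom.comp_base, TopCat.comp_app]
    convert X'.fromSpecStalk_closedPoint using 2
    exact IsLocalRing.comap_closedPoint (inv (f.stalkMap x)).hom
  intro x₁ x₂ hx
  have key : ∀ (y : X) (hy : genericPoint X ⤳ y) (b₁ b₂ : Spec (X.presheaf.stalk y) ⟶ X'),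
      b₁ ≫ f = b₂ ≫ f →
      Spec.map (X.presheaf.stalkSpecializes hy) ≫ b₁ = Spec.map (X.presheaf.stalkSpecializes hy) ≫ b₂ →
      b₁ = b₂ := by
    intro y hy b₁ b₂ h₁ h₂
    have : IsDominant (Spec.map (X.presheaf.stalkSpecializes hy)) :=
      ⟨(PrimeSpectrum.denseRange_comap_iff_ker_le_nilRadical _).2 (by
        rw [(RingHom.injective_iff_ker_eq_bot _).1 (spec_injective rfl hy)]
        exact bot_le)⟩
    exact ext_of_isDominant_of_isSeparated f h₁ _ h₂
  have main : ∀ (η η' : X) (_ : η = genericPoint X) (y₁ y₂ : X) (_ : y₁ = y₂) (h1 : η ⤳ y₁) (h2 : η ⤳ y₂)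
      (b₁ : Spec (X.presheaf.stalk y₁) ⟶ X') (b₂ : Spec (X.presheaf.stalk y₂) ⟶ X'),
      b₁ ≫ f = X.fromSpecStalk y₁ → b₂ ≫ f = X.fromSpecStalk y₂ →
      Spec.map (X.presheaf.stalkSpecializes h1) ≫ b₁ = Spec.map (X.presheaf.stalkSpecializes h2) ≫ b₂ →
      b₁ (IsLocalRing.closedPoint _) = b₂ (IsLocalRing.closedPoint _) := by
    intro η _ hη y₁ y₂ hy h1 h2 b₁ b₂ h₁ h₂ h
    subst hη hy
    rw [key y₁ h1 b₁ b₂ (h₁.trans h₂.symm) h]
  rw [← hclosed x₁, ← hclosed x₂]
  exact main (f (genericPoint X')) (f (genericPoint X')) (map_genericPoint f) _ _ hx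
    (f.base.hom.map_specializes (hs x₁)) (f.base.hom.map_specializes (hs x₂)) _ _ (ha x₁) (ha x₂)
    ((hgen x₁).trans (hgen x₂).symm)

include hK in
theorem isIso [IsSeparated f] (h : IsAffineHom f ∨ LocallyOfFinitePresentation f) : IsIso f := by
  have hinj := injective f hK
  have hhom : IsHomeomorph f := by
    rcases h with h | h
    · have hq := Flat.isQuotientMap_of_surjective f
      refine ⟨f.continuous, fun U hU => ?_, hinj, f.surjective⟩
      rw [← hq.isOpen_preimage]
      rwa [Set.preimage_image_eq _ hinj]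
    · exact ⟨f.continuous, f.isOpenMap, hinj, f.surjective⟩
  rw [AlgebraicGeometry.isIso_iff_isIso_stalkMap]
  exact ⟨(TopCat.isIso_iff_isHomeomorph _).2 hhom, isIso_stalkMap f hK⟩

end Groth.Agent.BirFlat
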